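import Groth.Agent.ThickFP.Basic
import Groth.Agent.CokStage.Stage
import Groth.Agent.FlatLimMod.Basic

/-!
Finite presentation of flat modules along first order thickenings.
-/

set_option autoImplicit false
set_option linter.style.haveILetI false
set_option backward.isDefEq.respectTransparency false
set_option backward.isDefEq.respectTransparency.types false

universe u

open CategoryTheory CategoryTheory.Limits AlgebraicGeometry TopologicalSpace TensorProduct Opposite
open Groth.Agent.OmegaThick

namespace Groth.Agent.ThickFP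

/-- Flatness over the base is preserved by pullback along a flat morphism. -/
theorem isFlatOverAt_pullback {X Y S : Scheme.{u}} (h : X ⟶ Y) (q : Y ⟶ S) (G : Y.Modules) (x : X)
    (hflat : (h.stalkMap x).hom.Flat) (H : FlatMod.IsFlatOverAt q G (h.base x)) :
    FlatMod.IsFlatOverAt (h ≫ q) ((Scheme.Modules.pullback h).obj G) x := by
  let R := S.presheaf.stalk ((h ≫ q) x)
  let φ : R →+* Y.presheaf.stalk (h x) := (q.stalkMap (h x)).hom
  letI : Algebra R (Y.presheaf.stalk (h x)) := φ.toAlgebra
  letI : Algebra (Y.presheaf.stalk (h x)) (X.presheaf.stalk x) := (h.stalkMap x).hom.toAlgebra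
  letI : Algebra R (X.presheaf.stalk x) := ((h ≫ q).stalkMap x).hom.toAlgebra
  haveI : IsScalarTower R (Y.presheaf.stalk (h x)) (X.presheaf.stalk x) :=
    IsScalarTower.of_algebraMap_eq fun a => congr($(Scheme.Hom.stalkMap_comp h q x) a)
  haveI : Module.Flat (Y.presheaf.stalk (h x)) (X.presheaf.stalk x) := hflat
  haveI : IsLocalHom (algebraMap (Y.presheaf.stalk (h x)) (X.presheaf.stalk x)) :=
    inferInstanceAs (IsLocalHom (h.stalkMap x).hom)
  haveI : Module.FaithfullyFlat (Y.presheaf.stalk (h x)) (X.presheaf.stalk x) :=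
    Module.FaithfullyFlat.of_flat_of_isLocalHom
  letI : Module R (G.presheaf.stalk (h x)) := FlatMod.moduleStalkOver q G (h x)
  haveI : IsScalarTower R (Y.presheaf.stalk (h x)) (G.presheaf.stalk (h x)) :=
    ⟨fun a c m => mul_smul (φ a) c m⟩
  letI := FlatMod.moduleStalkOver (h ≫ q) ((Scheme.Modules.pullback h).obj G) x
  let e0 : ((Scheme.Modules.pullback h).obj G).presheaf.stalk x ≃ₗ[X.presheaf.stalk x]
      X.presheaf.stalk x ⊗[Y.presheaf.stalk (h x)] G.presheaf.stalk (h x) :=
    ((KFlat.pullStalkIso h x).app G).toLinearEquiv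
  haveI : IsScalarTower R (X.presheaf.stalk x) (((Scheme.Modules.pullback h).obj G).presheaf.stalk x) :=
    ⟨fun a c m => mul_smul (((h ≫ q).stalkMap x).hom a) c m⟩
  have e := e0.restrictScalars R
  exact @Module.Flat.of_linearEquiv _ _ _ _ _ _ _ _
    ((FlatModB.flat_tensor_iff_of_faithfullyFlat R (Y.presheaf.stalk (h x))
      (X.presheaf.stalk x) (G.presheaf.stalk (h x))).2 H) e

theorem isFP_of_iso {X : Scheme.{u}} {M N : X.Modules} (e : M ≅ N) (h : CohB1.IsFP M) : CohB1.IsFP N :=
  QC.isFP_iff_exists_hasFinPres.mpr fun x => by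
    obtain ⟨U, hU, P, hP⟩ := QC.isFP_iff_exists_hasFinPres.mp h x
    haveI := hP
    exact ⟨U, hU, SheafOfModules.Presentation.ofIsIso.{u} ((Scheme.Modules.restrictFunctor U.ι).mapIso e).hom P,
      inferInstance⟩

variable {X X' T T' : Scheme.{u}} {i : X ⟶ X'} {q : X ⟶ T} {q' : X' ⟶ T'} {t : T ⟶ T'}

/-- A sequence with flat quotient stays left exact on the reduction. -/
theorem mono_pullback (hsq : IsPullback i q q' t) {S : ShortComplex X'.Modules} (hS : S.ShortExact)
    (hfl : FlatMod.IsFlatOver q' S.X₃) : Mono ((Scheme.Modules.pullback i).map S.f) := by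
  have h := CohBound.mono_pullback_fst q' t hS fun x _ => hfl x
  rw [← hsq.isoPullback_hom_fst, FlatFunLib.mono_trans S.f hsq.isoPullback.hom (pullback.fst q' t)]
  exact FlatFunLib.mono_pullback_of_flat _ _

/-- The case of a module with a finite set of global generators. -/
theorem isFP_of_epi (hsq : IsPullback i q q' t) (ht : Fot t) {M : X'.Modules}
    (hfl : FlatMod.IsFlatOver q' M) (hM : CohB1.IsFP ((Scheme.Modules.pullback i).obj M)) {n : ℕ}
    (v : FlatMod.freeMod X' n ⟶ M) [Epi v] : CohB1.IsFP M := by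
  haveI hMq : Coh.IsQCoh ((Scheme.Modules.pullback i).obj M) := by
    haveI := hM
    infer_instance
  let F := (Scheme.Modules.pullback i).obj (FlatMod.freeMod X' n)
  let P := (Scheme.Modules.pullback i).map v
  haveI hFq : Coh.IsQCoh F := QC.isQCoh_of_iso (DerPerf.pullFreeIso i n).symm (LocFree.isQCoh_freeMod X n)
  have hFf : CohB1.IsFT F := QC.isFT_of_epi (DerPerf.pullFreeIso i n).inv (ModDesc.isFT_of_isFP (isFP_freeMod X n))
  have hS : (ShortComplex.mk (kernel.ι v) v (kernel.condition v)).ShortExact :=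
    ShortComplex.ShortExact.mk' (ShortComplex.exact_of_f_is_kernel _ (kernelIsKernel v)) inferInstance inferInstance
  let T₂ := (ShortComplex.mk (kernel.ι v) v (kernel.condition v)).map (Scheme.Modules.pullback i)
  haveI : Mono T₂.f := mono_pullback hsq hS hfl
  have hT₂ : T₂.Exact :=
    ShortComplex.exact_of_g_is_cokernel _ (CokernelCofork.mapIsColimit _ hS.gIsCokernel _)
  let e : (Scheme.Modules.pullback i).obj (kernel v) ≅ kernel P :=
    hT₂.fIsKernel.conePointUniqueUpToIso (limit.isLimit (parallelPair P 0))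
  have hKq : Coh.IsQCoh (kernel P) := QC.isQCoh_kernel hFq hMq P
  haveI : Epi P := inferInstanceAs (Epi ((Scheme.Modules.pullback i).map v))
  have hKf : CohB1.IsFT (kernel P) := (QC.isFT_iff_finite_sections (hM := hKq)).2 fun U =>
    ModDesc.finite_sections_kernel P hFf hM U.2
  have hi : Fot i := fot_of_isPullback ht hsq
  have hKq' : Coh.IsQCoh ((Scheme.Modules.pullback i).obj (kernel v)) := QC.isQCoh_of_iso e.symm hKq
  refine QC.isFP_of_local fun p => ?_
  obtain ⟨x, rfl⟩ := (Fot.surjective hi).surj p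
  obtain ⟨Y, j, hj, m, w, hx, hw⟩ := exists_epi_free hi (kernel v) hKq' (QC.isFT_of_epi e.inv hKf) x
  let R := Scheme.Modules.restrictFunctor j
  let g : FlatMod.freeMod Y m ⟶ R.obj (FlatMod.freeMod X' n) := w ≫ R.map (kernel.ι v)
  have hg : g ≫ R.map v = 0 := by
    simp only [g, Category.assoc, ← Functor.map_comp, kernel.condition, Functor.map_zero, comp_zero]
  haveI : Epi (R.map v) := inferInstance
  have hex : (ShortComplex.mk (R.map (kernel.ι v)) (R.map v)
      (by rw [← Functor.map_comp, kernel.condition, Functor.map_zero])).Exact := hS.exact.map R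
  have hcok : IsColimit (CokernelCofork.ofπ (R.map v) hg) :=
    isCokernelEpiComp hex.gIsCokernel w rfl
  have hfree : CohB1.IsFP (R.obj (FlatMod.freeMod X' n)) := QC.isFP_restrict _ (isFP_freeMod X' n)
  have hFP : CohB1.IsFP (cokernel g) := CokStage.isFP_cokernel g (LocFree.isQCoh_freeMod Y m)
    (QC.isQCoh_restrict _ (LocFree.isQCoh_freeMod X' n)) (isFP_freeMod Y m) hfree
  exact ⟨Y, j, hj, hx, isFP_of_iso
    ((cokernelIsCokernel g).coconePointUniqueUpToIso hcok) hFP⟩

/-- Finite presentation of flat modules is detected on the reduction. -/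
theorem isFP_iff (hsq : IsPullback i q q' t) (ht : Fot t) {M : X'.Modules} (hfl : FlatMod.IsFlatOver q' M) :
    CohB1.IsFP M ↔ CohB1.IsFP ((Scheme.Modules.pullback i).obj M) := by
  constructor
  · intro h
    haveI : Coh.IsQCoh M := by
      haveI := h
      infer_instance
    exact ModDesc.isFP_pullback i inferInstance h
  intro h
  have hi : Fot i := fot_of_isPullback ht hsq
  have hMq : Coh.IsQCoh ((Scheme.Modules.pullback i).obj M) := by
    haveI := h
    infer_instance
  refine QC.isFP_of_local fun p => ?_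
  obtain ⟨x, rfl⟩ := (Fot.surjective hi).surj p
  obtain ⟨Y, j, hj, n, v, hx, hv⟩ := exists_epi_free hi M hMq (ModDesc.isFT_of_isFP h) x
  refine ⟨Y, j, hj, hx, ?_⟩
  have hp : IsPullback (pullback.snd i j) (pullback.fst i j ≫ q) (j ≫ q') t :=
    ((IsPullback.of_hasPullback i j).flip.paste_vert hsq)
  haveI : IsOpenImmersion (pullback.fst i j) := inferInstance
  have hfl' : FlatMod.IsFlatOver (j ≫ q') (M.restrict j) := fun y =>
    FlatLimMod.isFlatOverAt_of_iso _ ((Scheme.Modules.restrictFunctorIsoPullback j).app M).symm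
      (isFlatOverAt_pullback j q' M y (Flat.stalkMap j y) (hfl _))
  have hFP : CohB1.IsFP ((Scheme.Modules.pullback (pullback.snd i j)).obj (M.restrict j)) :=
    isFP_of_iso
      (pullIso (i := i) j (pullback.fst i j) (pullback.snd i j) pullback.condition M).symm (QC.isFP_restrict _ h)
  haveI := hv
  exact isFP_of_epi hp ht hfl' hFP v

end Groth.Agent.ThickFP
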