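import Groth.Agent.ThickProp.Square
import Groth.Agent.OmegaThick.Scheme
import Groth.Agent.CohBound.FlatQuot
import Groth.Agent.FlatFunLib.ModCond
import Groth.Agent.FlatModB.FFDesc
import Groth.Agent.SupportLib.Pull
import Groth.Agent.CohQC.QuasiAffine
import Groth.Agent.LocFree.Props
import Groth.Agent.ModDesc.KerFT
import Groth.Agent.FPExt.Basic
import Groth.Agent.W7Hull.Sub
import Groth.Agent.DerPerf.Local
import Groth.Prelude.Def_MoreMor
import Mathlib

/-!
Finite type and finite presentation of modules along first order thickenings.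
-/

set_option autoImplicit false
set_option linter.style.haveILetI false
set_option backward.isDefEq.respectTransparency false
set_option backward.isDefEq.respectTransparency.types false

universe u

open CategoryTheory CategoryTheory.Limits AlgebraicGeometry TopologicalSpace TensorProduct Opposite
open Groth.Agent.OmegaThick

namespace Groth.Agent.ThickFP

section Algebra

/-- Nakayama for a square zero kernel. -/
theorem surjective_of_lTensor {R A : Type u} [CommRing R] [CommRing A] [Algebra R A]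
    (hs : Function.Surjective (algebraMap R A))
    (hk : RingHom.ker (algebraMap R A) * RingHom.ker (algebraMap R A) = ⊥)
    {M N : Type u} [AddCommGroup M] [Module R M] [AddCommGroup N] [Module R N] (f : M →ₗ[R] N)
    (h : Function.Surjective (f.lTensor A)) : Function.Surjective f := by
  let J := RingHom.ker (algebraMap R A)
  let Q := N ⧸ LinearMap.range f
  have hA : Subsingleton (A ⊗[R] Q) := by
    refine subsingleton_of_forall_eq 0 fun z => ?_
    obtain ⟨w, rfl⟩ := LinearMap.lTensor_surjective A (LinearMap.range f).mkQ_surjective z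
    obtain ⟨v, rfl⟩ := h w
    rw [← LinearMap.comp_apply, ← LinearMap.lTensor_comp, LinearMap.range_mkQ_comp,
      LinearMap.lTensor_zero, LinearMap.zero_apply]
  have eA : (R ⧸ J) ≃ₗ[R] A :=
    (Ideal.quotientKerAlgEquivOfSurjective (f := Algebra.ofId R A) hs).toLinearEquiv
  haveI : Subsingleton ((R ⧸ J) ⊗[R] Q) := (TensorProduct.congr eA (LinearEquiv.refl R Q)).toEquiv.subsingleton
  haveI : Subsingleton (Q ⧸ J • (⊤ : Submodule R Q)) :=
    (TensorProduct.quotTensorEquivQuotSMul Q J).symm.toEquiv.subsingleton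
  have hQ : J • (⊤ : Submodule R Q) = ⊤ := Submodule.Quotient.subsingleton_iff.mp inferInstance
  have h0 : (⊤ : Submodule R Q) = ⊥ := by
    rw [← hQ, ← hQ, ← Submodule.smul_assoc, Ideal.smul_eq_mul, hk, Submodule.bot_smul]
  intro n
  have : (LinearMap.range f).mkQ n ∈ (⊥ : Submodule R Q) := h0 ▸ trivial
  exact (Submodule.Quotient.mk_eq_zero _).1 ((Submodule.mem_bot R).1 this)

/-- A module is finite if its reduction along a square zero kernel is. -/
theorem finite_of_tensor {R A : Type u} [CommRing R] [CommRing A] [Algebra R A]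
    (hs : Function.Surjective (algebraMap R A))
    (hk : RingHom.ker (algebraMap R A) * RingHom.ker (algebraMap R A) = ⊥)
    {N : Type u} [AddCommGroup N] [Module R N] [Module.Finite A (A ⊗[R] N)] : Module.Finite R N := by
  obtain ⟨n, g, hg⟩ := Module.Finite.exists_fin (R := A) (M := A ⊗[R] N)
  choose m hm using fun k => TensorProduct.mk_surjective R N A hs (g k)
  let f : (Fin n → R) →ₗ[R] N := Fintype.linearCombination R m
  refine Module.Finite.of_surjective f (surjective_of_lTensor hs hk f fun z => ?_)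
  have hz : z ∈ Submodule.span A (Set.range g) := hg ▸ trivial
  induction hz using Submodule.span_induction with
  | mem y hy =>
    obtain ⟨k, rfl⟩ := hy
    refine ⟨1 ⊗ₜ Pi.single k 1, ?_⟩
    rw [LinearMap.lTensor_tmul, Fintype.linearCombination_apply_single, one_smul]
    exact hm k
  | zero => exact ⟨0, map_zero _⟩
  | add a b _ _ ha hb =>
    obtain ⟨a, rfl⟩ := ha
    obtain ⟨b, rfl⟩ := hb
    exact ⟨a + b, map_add _ _ _⟩
  | smul c a _ ha =>
    obtain ⟨a, rfl⟩ := ha
    exact ⟨c • a, map_smul ((LinearMap.baseChange A f)) c a⟩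

end Algebra

variable {X X' : Scheme.{u}} {i : X ⟶ X'}

/-- The stalk maps of a first order thickening have square zero kernel. -/
theorem stalk_ker_sq (hi : Fot i) (x : X) :
    RingHom.ker (i.stalkMap x).hom * RingHom.ker (i.stalkMap x).hom = ⊥ := by
  haveI := Fot.isClosedImmersion hi
  have key : ∀ a, (i.stalkMap x).hom a = 0 → ∀ W : X'.Opens, i x ∈ W →
      ∃ (V : X'.Opens) (hV : i x ∈ V) (r : Γ(X', V)), V ≤ W ∧
        X'.presheaf.germ V (i x) hV r = a ∧ i.app V r = 0 := by
    intro a ha W hW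
    obtain ⟨U, hU, r, rfl⟩ := TopCat.Presheaf.exists_germ_eq X'.presheaf a
    rw [Scheme.Hom.germ_stalkMap_apply] at ha
    obtain ⟨O, hxO, iO, iO', hO⟩ := TopCat.Presheaf.germ_eq X.presheaf (U := i ⁻¹ᵁ U) (V := i ⁻¹ᵁ U) x hU hU (i.app U r) 0
      (ha.trans (map_zero _).symm)
    obtain ⟨O', hO', hOO⟩ := i.isEmbedding.isInducing.isOpen_iff.1 O.2
    have hxO' : i x ∈ O' := by
      have : x ∈ i ⁻¹' O' := hOO ▸ hxO
      exact this
    let V : X'.Opens := U ⊓ W ⊓ ⟨O', hO'⟩
    have hVU : V ≤ U := inf_le_left.trans inf_le_left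
    refine ⟨V, ⟨⟨hU, hW⟩, hxO'⟩, X'.presheaf.map (homOfLE hVU).op r, inf_le_left.trans inf_le_right,
      TopCat.Presheaf.germ_res_apply X'.presheaf (homOfLE hVU) (i x) _ r, ?_⟩
    have hle : i ⁻¹ᵁ V ≤ O := fun y hy => by
      have h2 : y ∈ i ⁻¹' O' := hy.2
      rw [hOO] at h2
      exact h2
    rw [← ConcreteCategory.comp_apply, Scheme.Hom.naturality, ConcreteCategory.comp_apply]
    have h1 := congrArg (fun s => X.presheaf.map (homOfLE hle).op s) hO
    dsimp only at h1
    rw [map_zero, map_zero, ← ConcreteCategory.comp_apply (X.presheaf.map iO.op) (X.presheaf.map (homOfLE hle).op),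
      ← Functor.map_comp] at h1
    exact h1
  rw [eq_bot_iff, Ideal.mul_le]
  intro a ha b hb
  rw [RingHom.mem_ker] at ha hb
  obtain ⟨V₁, hV₁, r₁, -, rfl, h₁⟩ := key a ha ⊤ trivial
  obtain ⟨V₂, hV₂, r₂, hV₂₁, rfl, h₂⟩ := key b hb V₁ hV₁
  obtain ⟨W, hW, hxW, hWV⟩ := exists_isAffineOpen_mem_and_subset (X := X') (x := i x) (U := V₂) hV₂
  have m₁ : i.app W (X'.presheaf.map (homOfLE ((SetLike.coe_subset_coe.1 hWV).trans hV₂₁)).op r₁) = 0 := by
    rw [← ConcreteCategory.comp_apply, Scheme.Hom.naturality, ConcreteCategory.comp_apply, h₁, map_zero]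
  have m₂ : i.app W (X'.presheaf.map (homOfLE (SetLike.coe_subset_coe.1 hWV)).op r₂) = 0 := by
    rw [← ConcreteCategory.comp_apply, Scheme.Hom.naturality, ConcreteCategory.comp_apply, h₂, map_zero]
  rw [Ideal.mem_bot, ← TopCat.Presheaf.germ_res_apply X'.presheaf
      (homOfLE ((SetLike.coe_subset_coe.1 hWV).trans hV₂₁)) (i x) hxW r₁,
    ← TopCat.Presheaf.germ_res_apply X'.presheaf (homOfLE (SetLike.coe_subset_coe.1 hWV)) (i x) hxW r₂,
    ← map_mul]
  have hm := Ideal.mul_mem_mul (I := RingHom.ker (i.app W).hom) (J := RingHom.ker (i.app W).hom) m₁ m₂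
  rw [← pow_two, Fot.ker_sq hi ⟨W, hW⟩, Ideal.mem_bot] at hm
  rw [hm, map_zero]

/-- Surjectivity on a stalk is detected on the thickened subscheme. -/
theorem stalk_surjective (hi : Fot i) {M N : X'.Modules} (φ : M ⟶ N) (x : X)
    (h : Function.Surjective (W7Hull.st ((Scheme.Modules.pullback i).map φ) x)) :
    Function.Surjective (W7Hull.st φ (i x)) := by
  haveI := Fot.isClosedImmersion hi
  letI := (i.stalkMap x).hom.toAlgebra
  have he : Epi ((DerSch.stalkFunctor X x).map ((Scheme.Modules.pullback i).map φ)) :=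
    (ModuleCat.epi_iff_surjective _).2 h
  have h2 := (ModuleCat.epi_iff_surjective _).1
    (((MorphismProperty.epimorphisms _).arrow_mk_iso_iff (FlatFunLib.stalk_pullback i x φ)).1 he)
  exact surjective_of_lTensor (A := X.presheaf.stalk x) (i.stalkMap_surjective x) (stalk_ker_sq hi x)
    (W7Hull.st φ (i x)) h2

/-- Surjectivity on a stalk is preserved by pullback. -/
theorem stalk_surjective_pullback {Y : Scheme.{u}} (g : Y ⟶ X') {M N : X'.Modules} (φ : M ⟶ N) (y : Y)
    (h : Function.Surjective (W7Hull.st φ (g y))) :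
    Function.Surjective (W7Hull.st ((Scheme.Modules.pullback g).map φ) y) := by
  letI := (g.stalkMap y).hom.toAlgebra
  have h2 : Epi ((ModuleCat.extendScalars.{u, u, u} (g.stalkMap y).hom).map
      ((DerSch.stalkFunctor X' (g y)).map φ)) :=
    (ModuleCat.epi_iff_surjective _).2 (LinearMap.lTensor_surjective (Y.presheaf.stalk y) h)
  exact (ModuleCat.epi_iff_surjective _).1
    (((MorphismProperty.epimorphisms _).arrow_mk_iso_iff (FlatFunLib.stalk_pullback g y φ)).2 h2)

/-- A stalk of a module is finite if the stalk of its restriction to the thickened subscheme is. -/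
theorem finite_stalk (hi : Fot i) (M : X'.Modules) (x : X)
    [Module.Finite (X.presheaf.stalk x) (((Scheme.Modules.pullback i).obj M).presheaf.stalk x)] :
    Module.Finite (X'.presheaf.stalk (i x)) (M.presheaf.stalk (i x)) := by
  haveI := Fot.isClosedImmersion hi
  letI := (i.stalkMap x).hom.toAlgebra
  haveI : Module.Finite (X.presheaf.stalk x)
      (X.presheaf.stalk x ⊗[X'.presheaf.stalk (i x)] M.presheaf.stalk (i x)) :=
    haveI : Module.Finite (X.presheaf.stalk x) ((Scheme.Modules.pullback i ⋙ DerSch.stalkFunctor X x).obj M) :=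
      ‹Module.Finite (X.presheaf.stalk x) (((Scheme.Modules.pullback i).obj M).presheaf.stalk x)›
    Module.Finite.equiv ((KFlat.pullStalkIso i x).app M).toLinearEquiv
  exact finite_of_tensor (A := X.presheaf.stalk x) (i.stalkMap_surjective x) (stalk_ker_sq hi x)

/-- The stalk comparison of a restriction, with its values on germs. -/
theorem exists_stalk_restrict (F : X.Modules) (U : X.Opens) (x : U) :
    ∃ (σ : (U : Scheme.{u}).presheaf.stalk x ≃+* X.presheaf.stalk x.1)
      (e : (F.restrict U.ι).presheaf.stalk x ≃+ F.presheaf.stalk x.1),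
      (∀ (r : (U : Scheme.{u}).presheaf.stalk x) (m : (F.restrict U.ι).presheaf.stalk x),
        e (r • m) = σ r • e m) ∧
      ∀ (V : (U : Scheme.{u}).Opens) (hx : x ∈ V) (s : Γ(F.restrict U.ι, V)),
        e ((F.restrict U.ι).presheaf.germ V x hx s) =
          F.presheaf.germ (U.ι ''ᵁ V) x.1 ⟨x, hx, rfl⟩ s := by
  let I : (F.restrict U.ι).presheaf.stalk x ≅ F.presheaf.stalk x.1 :=
    (Scheme.Modules.restrictStalkNatIso U.ι x).app F
  have hI : ∀ (V : (U : Scheme.{u}).Opens) (hx : x ∈ V) (s : Γ(F.restrict U.ι, V)),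
      I.addCommGroupIsoToAddEquiv ((F.restrict U.ι).presheaf.germ V x hx s) =
        F.presheaf.germ (U.ι ''ᵁ V) x.1 ⟨x, hx, rfl⟩ s := fun V hx s =>
    congrArg (fun q => q.hom s) (Scheme.Modules.germ_restrictStalkNatIso_hom_app U.ι x F hx)
  have hσ : ∀ (V : (U : Scheme.{u}).Opens) (hx : x ∈ V) (s : Γ((U : Scheme.{u}), V)),
      (U.stalkIso x).commRingCatIsoToRingEquiv ((U : Scheme.{u}).presheaf.germ V x hx s) =
        X.presheaf.germ (U.ι ''ᵁ V) x.1 ⟨x, hx, rfl⟩ s := fun V hx s =>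
    congrArg (fun q => q.hom s) (U.germ_stalkIso_hom x hx)
  refine ⟨(U.stalkIso x).commRingCatIsoToRingEquiv, I.addCommGroupIsoToAddEquiv, fun r m => ?_, hI⟩
  obtain ⟨V, hV, a, rfl⟩ := TopCat.Presheaf.exists_germ_eq (U : Scheme.{u}).presheaf r
  obtain ⟨W, hW, s, rfl⟩ := TopCat.Presheaf.exists_germ_eq (F.restrict U.ι).presheaf m
  rw [← TopCat.Presheaf.germ_res_apply _ (homOfLE (inf_le_left : V ⊓ W ≤ V)) x ⟨hV, hW⟩ a,
    ← TopCat.Presheaf.germ_res_apply _ (homOfLE (inf_le_right : V ⊓ W ≤ W)) x ⟨hV, hW⟩ s,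
    ← Mero.germ_smul, hσ, hI, hI]
  have hx' : x.1 ∈ U.ι ''ᵁ (V ⊓ W) := ⟨x, ⟨hV, hW⟩, rfl⟩
  have h := Mero.germ_smul F (U.ι ''ᵁ (V ⊓ W)) x.1 hx'
    ((U.ι.appIso (V ⊓ W)).inv ((U : Scheme.{u}).presheaf.map (homOfLE (inf_le_left : V ⊓ W ≤ V)).op a))
    ((F.restrict U.ι).presheaf.map (homOfLE (inf_le_right : V ⊓ W ≤ W)).op s : Γ(F, U.ι ''ᵁ (V ⊓ W)))
  have hid : (U.ι.appIso (V ⊓ W)).inv ((U : Scheme.{u}).presheaf.map (homOfLE (inf_le_left : V ⊓ W ≤ V)).op a) =
      (U : Scheme.{u}).presheaf.map (homOfLE (inf_le_left : V ⊓ W ≤ V)).op a := by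
    rw [Scheme.Opens.ι_appIso]; rfl
  refine Eq.trans ?_ (h.trans (congrArg (fun c => X.presheaf.germ (U.ι ''ᵁ (V ⊓ W)) x.1 hx' c • _) hid))
  rfl

/-- Generators of a stalk give a map from a free module on a neighbourhood. -/
theorem exists_free_hom (M : X'.Modules) (p : X') [Module.Finite (X'.presheaf.stalk p) (M.presheaf.stalk p)] :
    ∃ (U : X'.Opens) (hp : p ∈ U) (n : ℕ) (v : FlatMod.freeMod U n ⟶ M.restrict U.ι),
      Function.Surjective (W7Hull.st v ⟨p, hp⟩) := by
  obtain ⟨n, m, hm⟩ := Module.Finite.exists_fin (R := X'.presheaf.stalk p) (M := M.presheaf.stalk p)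
  choose V hV s hs using fun k => TopCat.Presheaf.exists_germ_eq M.presheaf (m k)
  obtain ⟨U, hp, hUV⟩ : ∃ U : X'.Opens, p ∈ U ∧ ∀ k, U ≤ V k :=
    ⟨⟨⋂ k, (V k : Set X'), isOpen_iInter_of_finite fun k => (V k).2⟩, Set.mem_iInter.2 hV,
      fun k y hy => Set.mem_iInter.1 hy k⟩
  have hle : ∀ k, U.ι ''ᵁ ⊤ ≤ V k := fun k => by simpa using hUV k
  let t : Fin n → Γ(M.restrict U.ι, ⊤) := fun k => M.presheaf.map (homOfLE (hle k)).op (s k)
  let v : FlatMod.freeMod U n ⟶ M.restrict U.ι := Sigma.desc fun k => CohQC.secHom (t k)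
  refine ⟨U, hp, n, v, ?_⟩
  obtain ⟨σ, e, he, heg⟩ := exists_stalk_restrict M U ⟨p, hp⟩
  intro z
  suffices h : ∀ w, e.symm w ∈ LinearMap.range (W7Hull.st v ⟨p, hp⟩) from e.symm_apply_apply z ▸ h (e z)
  intro w
  have hw : w ∈ Submodule.span (X'.presheaf.stalk p) (Set.range m) := hm ▸ trivial
  induction hw using Submodule.span_induction with
  | mem y hy =>
    obtain ⟨k, rfl⟩ := hy
    have hk : e.symm (m k) = (M.restrict U.ι).presheaf.germ ⊤ (⟨p, hp⟩ : U) trivial (t k) := by
      rw [AddEquiv.symm_apply_eq]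
      refine (((heg ⊤ trivial (t k)).trans ?_).trans (hs k)).symm
      exact TopCat.Presheaf.germ_res_apply M.presheaf (homOfLE (hle k)) p _ (s k)
    refine ⟨W7Hull.st (Sigma.ι (fun _ : Fin n => Coh.structureModule (U : Scheme.{u})) k) ⟨p, hp⟩
      ((Coh.structureModule (U : Scheme.{u})).presheaf.germ ⊤ (⟨p, hp⟩ : U) trivial
        (show Γ(Coh.structureModule (U : Scheme.{u}), ⊤) from (1 : Γ((U : Scheme.{u}), ⊤)))), ?_⟩
    rw [← W7Hull.st_comp, hk, W7Hull.st_germ]
    simp only [v, Sigma.ι_desc]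
    rw [CohQC.secHom_app_one, QC.res_self]
  | zero => rw [map_zero]; exact Submodule.zero_mem _
  | add a b _ _ ha hb => rw [map_add]; exact Submodule.add_mem _ ha hb
  | smul c a _ ha =>
    obtain ⟨d, rfl⟩ := σ.surjective c
    have : e.symm (σ d • a) = d • e.symm a := by
      rw [AddEquiv.symm_apply_eq, he, e.apply_symm_apply]
    rw [this]
    exact Submodule.smul_mem _ _ ha

/-- Surjectivity at a point onto a finite type module spreads out. -/
theorem exists_nhd_surjective {F G : X.Modules} (w : F ⟶ G)  (hG' : CohB1.IsFT G) (x : X) (h : Function.Surjective (W7Hull.st w x)) :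
    ∃ W : X.Opens, x ∈ W ∧ ∀ y ∈ W, Function.Surjective (W7Hull.st w y) := by
  have hC : CohB1.IsFT (cokernel w) := QC.isFT_of_epi (cokernel.π w) hG'
  have hw : ∀ y z, W7Hull.st (cokernel.π w) y (W7Hull.st w y z) = 0 := fun y z => by
    rw [← W7Hull.st_comp, cokernel.condition, W7Hull.st_zero]
  have hx : x ∉ CohB1.support (cokernel w) := by
    simp only [CohB1.support, Set.mem_ofPred_eq, not_not]
    refine subsingleton_of_forall_eq 0 fun c => ?_
    haveI : Epi ((DerSch.stalkFunctor X x).map (cokernel.π w)) := inferInstance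
    obtain ⟨g, rfl⟩ := (ModuleCat.epi_iff_surjective _).1 this c
    obtain ⟨f, rfl⟩ := h g
    exact hw x f
  refine ⟨⟨_, (QC.isClosed_support hC).isOpen_compl⟩, hx, fun y hy g => ?_⟩
  have hy' : Subsingleton ((cokernel w).presheaf.stalk y) := not_not.1 hy
  have hex : ((ShortComplex.mk w (cokernel.π w) (cokernel.condition w)).map (DerSch.stalkFunctor X y)).Exact :=
    (ShortComplex.exact_of_g_is_cokernel _ (cokernelIsCokernel w)).map _
  exact ((ShortComplex.moduleCat_exact_iff _).1 hex) g (hy'.elim _ _)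

/-- Pullback to an open commutes with pullback. -/
noncomputable def pullIso {Y P : Scheme.{u}} (j : Y ⟶ X') [IsOpenImmersion j] (a : P ⟶ X)
    [IsOpenImmersion a] (b : P ⟶ Y) (w : a ≫ i = b ≫ j) (M : X'.Modules) :
    (Scheme.Modules.pullback b).obj (M.restrict j) ≅ ((Scheme.Modules.pullback i).obj M).restrict a :=
  (Scheme.Modules.pullback b).mapIso ((Scheme.Modules.restrictFunctorIsoPullback j).app M) ≪≫
    (Scheme.Modules.pullbackComp b j).app M ≪≫ (Scheme.Modules.pullbackCongr w.symm).app M ≪≫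
    ((Scheme.Modules.pullbackComp a i).app M).symm ≪≫
    ((Scheme.Modules.restrictFunctorIsoPullback a).app _).symm

/-- Locally an epimorphism from a finite free module. -/
theorem exists_epi_free (hi : Fot i) (M : X'.Modules) (hq : Coh.IsQCoh ((Scheme.Modules.pullback i).obj M))
    (hft : CohB1.IsFT ((Scheme.Modules.pullback i).obj M)) (x : X) :
    ∃ (Y : Scheme.{u}) (j : Y ⟶ X') (_ : IsOpenImmersion j) (n : ℕ) (v : FlatMod.freeMod Y n ⟶ M.restrict j),
      i x ∈ Set.range j ∧ Epi v := by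
  haveI : Coh.IsQCoh ((Scheme.Modules.pullback i).obj M) := hq
  haveI := SupportLib.finite_stalk ((Scheme.Modules.pullback i).obj M) hft x
  haveI := finite_stalk hi M x
  obtain ⟨U, hp, n, v, hv⟩ := exists_free_hom M (i x)
  let a := (i ⁻¹ᵁ U).ι
  let b := i ∣_ U
  have hb : Fot b := fot_of_isPullback hi (isPullback_morphismRestrict i U)
  have w : a ≫ i = b ≫ U.ι := (morphismRestrict_ι i U).symm
  let E := pullIso (i := i) U.ι a b w M
  have hGq : Coh.IsQCoh ((Scheme.Modules.pullback b).obj (M.restrict U.ι)) :=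
    QC.isQCoh_of_iso E.symm (QC.isQCoh_restrict _ hq)
  have hGf : CohB1.IsFT ((Scheme.Modules.pullback b).obj (M.restrict U.ι)) :=
    QC.isFT_of_epi E.inv (QC.isFT_restrict _ hft)
  let x' : (i ⁻¹ᵁ U : Scheme.{u}) := ⟨x, hp⟩
  have hbx : b x' = ⟨i x, hp⟩ := Subtype.ext (congrArg (fun f => f.base x') w).symm
  have hx' : Function.Surjective (W7Hull.st v (b x')) := hbx.symm ▸ hv
  obtain ⟨W, hxW, hW⟩ := exists_nhd_surjective ((Scheme.Modules.pullback b).map v) hGf x'
    (stalk_surjective_pullback b v x' hx')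
  haveI := Fot.isClosedImmersion hb
  haveI := Fot.surjective hb
  let W' : (U : Scheme.{u}).Opens :=
    ⟨(b '' (W : Set (i ⁻¹ᵁ U : Scheme.{u}))ᶜ)ᶜ, (b.isClosedMap _ W.2.isClosed_compl).isOpen_compl⟩
  have hW' : ∀ y' ∈ W', Function.Surjective (W7Hull.st v y') := by
    intro y' hy'
    obtain ⟨y, rfl⟩ := b.surjective y'
    refine stalk_surjective hb v y (hW y ?_)
    by_contra hy
    exact hy' ⟨y, hy, rfl⟩
  have hxW' : (⟨i x, hp⟩ : U) ∈ W' := by
    rintro ⟨y, hy, hyx⟩
    exact hy ((Fot.injective hb (hyx.trans hbx.symm)) ▸ hxW)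
  let v' : FlatMod.freeMod (W' : Scheme.{u}) n ⟶ M.restrict (W'.ι ≫ U.ι) :=
    (DerPerf.pullFreeIso W'.ι n).inv ≫ (Scheme.Modules.pullback W'.ι).map v ≫
      ((Scheme.Modules.restrictFunctorIsoPullback W'.ι).app _).inv ≫
      ((Scheme.Modules.restrictFunctorComp W'.ι U.ι).symm.app M).hom
  refine ⟨_, W'.ι ≫ U.ι, inferInstance, n, v', ⟨⟨_, hxW'⟩, rfl⟩, ?_⟩
  haveI : Epi ((Scheme.Modules.pullback W'.ι).map v) :=
    FlatFunLib.epi_of_stalks _ fun y => (ModuleCat.epi_iff_surjective _).2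
      (stalk_surjective_pullback W'.ι v y (hW' _ y.2))
  infer_instance

theorem isFP_freeMod (Y : Scheme.{u}) (n : ℕ) : CohB1.IsFP (FlatMod.freeMod Y n) :=
  LocFree.isFP_of_isFinLocFree fun _ => ⟨⊤, n, trivial,
    ⟨(Scheme.Modules.restrictFunctorIsoPullback _).app _ ≪≫ DerPerf.pullFreeIso _ n⟩⟩

theorem isFT_of_pullback (hi : Fot i) (M : X'.Modules) (hq : Coh.IsQCoh ((Scheme.Modules.pullback i).obj M))
    (hft : CohB1.IsFT ((Scheme.Modules.pullback i).obj M)) : CohB1.IsFT M := by
  refine QC.isFT_of_local fun p => ?_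
  obtain ⟨x, rfl⟩ := (Fot.surjective hi).surj p
  obtain ⟨Y, j, hj, n, v, hx, hv⟩ := exists_epi_free hi M hq hft x
  exact ⟨Y, j, hj, hx, QC.isFT_of_epi v (ModDesc.isFT_of_isFP (isFP_freeMod Y n))⟩

end Groth.Agent.ThickFP
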